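import Mathlib
import Cfsg.Prelude.Def_OddOrderLocal
import Cfsg.Agent.S1451
import Cfsg.Agent.S3743
import Cfsg.Agent.Lib.Helper2.QdR8
import Cfsg.Agent.Lib.Helper71.Fitting
import Cfsg.Agent.Lib.Helper24.PRank
import Cfsg.Agent.Lib.Helper78.BG.S1405Aux

/-!
Bender–Glauberman Theorem 10.2 (helper78), conditional on the uniqueness theorem (BG 9.6, row 1403)
and on BG Theorem 10.1 (row 1404), both taken as hypotheses.
-/

set_option autoImplicit false

namespace Cfsg.Agent.Lib.Helper78.BG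

open scoped commutatorElement

/-- `α(M) ⊆ σ(M)` for a maximal subgroup `M`, from the uniqueness theorem. -/
theorem alpha_subset_sigma {G : Type*} [Group G] [Finite G] (hG : Cfsg.IsMinSimpleOddOrder G)
    (h1403 : ∀ (K : Subgroup G), K ≠ ⊤ → ¬ Cfsg.RankLE 1 K →
      (¬ Cfsg.RankLE 2 K ∨ ¬ Cfsg.RankLE 2 (Subgroup.centralizer (K : Set G))) →
        Cfsg.InUniqueMaximal K)
    (M : Subgroup G) (hM : IsCoatom M) {p : ℕ} (hp : p ∈ Cfsg.alpha M) : p ∈ Cfsg.sigma M := by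
  obtain ⟨hpp, hrk⟩ := hp
  haveI : Fact p.Prime := ⟨hpp⟩
  haveI hsimple : IsSimpleGroup G := hG.2.1
  unfold Cfsg.PRankLE at hrk
  push Not at hrk
  obtain ⟨A, hAc, hAexp, hAcard⟩ := hrk
  have hAp : IsPGroup p A := by
    intro a
    refine ⟨1, ?_⟩
    rw [pow_one]
    exact Subtype.ext (by simpa using hAexp a a.2)
  obtain ⟨P, hAP⟩ := hAp.exists_le_sylow
  obtain ⟨K, hK⟩ : ∃ K : Subgroup G, K = (P : Subgroup M).map M.subtype := ⟨_, rfl⟩
  have hKM : K ≤ M := hK ▸ Subgroup.map_subtype_le _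
  have hKtop : K ≠ ⊤ := fun h => hM.1 (top_le_iff.mp (h ▸ hKM))
  -- the image of `A` in `G`
  have hA'K : A.map M.subtype ≤ K := hK ▸ Subgroup.map_mono hAP
  have hA'c : ∀ a ∈ A.map M.subtype, ∀ b ∈ A.map M.subtype, a * b = b * a := by
    rintro _ ⟨a, ha, rfl⟩ _ ⟨b, hb, rfl⟩
    have h2 := hAc.is_comm.comm (⟨a, ha⟩ : A) ⟨b, hb⟩
    have h3 := congrArg (fun x : A => ((x : M) : G)) h2
    simpa using h3
  have hA'e : ∀ a ∈ A.map M.subtype, a ^ p = 1 := by
    rintro _ ⟨a, ha, rfl⟩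
    have h2 := hAexp a ha
    have h3 := congrArg (fun x : M => (x : G)) h2
    simpa using h3
  have hA'card : Nat.card (A.map M.subtype) = Nat.card A :=
    Subgroup.card_map_of_injective M.subtype_injective
  have hnot : ∀ k, k ≤ 2 → ¬ Cfsg.RankLE k K := by
    intro k hk h
    have h1 := (Cfsg.Agent.Lib.Helper24.pRankLE_subgroup_iff p k K).mp (h p hpp)
      (A.map M.subtype) hA'K hA'c hA'e
    rw [hA'card] at h1
    have h2 : p ^ k ≤ p ^ 2 := Nat.pow_le_pow_right hpp.pos hk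
    omega
  have huniq := h1403 K hKtop (hnot 1 (by norm_num)) (Or.inl (hnot 2 le_rfl))
  obtain ⟨M', -, hM'uniq⟩ := huniq
  have hMM' : M = M' := hM'uniq M ⟨hM, hKM⟩
  -- `p ∣ |A|`
  obtain ⟨n, hn⟩ := IsPGroup.iff_card.mp hAp
  have hn0 : n ≠ 0 := by
    rintro rfl
    rw [pow_zero] at hn
    have : 1 ≤ p ^ 2 := Nat.one_le_pow _ _ hpp.pos
    omega
  have hpA : p ∣ Nat.card A := by rw [hn]; exact dvd_pow_self p hn0
  have hpM : p ∣ Nat.card M := hpA.trans (Subgroup.card_subgroup_dvd_card A)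
  have hKbot : K ≠ ⊥ := by
    intro h
    have h1 : Nat.card (A.map M.subtype) ∣ Nat.card K := Subgroup.card_dvd_of_le hA'K
    rw [h, Subgroup.card_bot, Nat.dvd_one, hA'card] at h1
    rw [h1] at hpA
    exact hpp.one_lt.ne' (Nat.dvd_one.mp hpA)
  -- the normalizer of `K` is proper, hence inside the unique maximal subgroup `M`
  have hNtop : Subgroup.normalizer (K : Set G) ≠ ⊤ := by
    intro h
    have hKn : K.Normal := Subgroup.normalizer_eq_top_iff.mp h
    rcases hKn.eq_bot_or_eq_top with h' | h'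
    · exact hKbot h'
    · exact hKtop h'
  obtain ⟨M₁, hM₁, hNM₁⟩ := (eq_top_or_exists_le_coatom _).resolve_left hNtop
  have hM₁M : M₁ = M' := hM'uniq M₁ ⟨hM₁, Subgroup.le_normalizer.trans hNM₁⟩
  have hNM : Subgroup.normalizer (K : Set G) ≤ M := by
    rw [hMM', ← hM₁M]; exact hNM₁
  exact ⟨hpp, hpM, P, hK ▸ hNM⟩

theorem s1405_core {G : Type*} [Group G] [Finite G] (hG : Cfsg.IsMinSimpleOddOrder G)
    (h1403 : ∀ (K : Subgroup G), K ≠ ⊤ → ¬ Cfsg.RankLE 1 K →
      (¬ Cfsg.RankLE 2 K ∨ ¬ Cfsg.RankLE 2 (Subgroup.centralizer (K : Set G))) →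
        Cfsg.InUniqueMaximal K)
    (h1404 : ∀ (M : Subgroup G), IsCoatom M → ∀ (p : ℕ) [Fact p.Prime], p ∈ Cfsg.sigma M →
      ∀ (X : Subgroup G), IsPGroup p X → X ≠ ⊥ → X ≤ M →
      (∀ g : G, X.map (MulAut.conj g).toMonoidHom ≤ M →
          ∃ m ∈ M, ∃ c ∈ Subgroup.centralizer (X : Set G), g = m * c) ∧
        Subgroup.normalizer (X : Set G) =
          (M ⊓ Subgroup.normalizer (X : Set G)) ⊔ Subgroup.centralizer (X : Set G))
    (M : Subgroup G) (hM : IsCoatom M) :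
    Cfsg.IsPiHallOf (Cfsg.alpha M) (Cfsg.alphaCore M) M ∧
      Cfsg.IsPiHall (Cfsg.alpha M) (Cfsg.alphaCore M) ∧
      Cfsg.alphaCore M ≤ Cfsg.sigmaCore M ∧
      Cfsg.RankLE 2 (↥M ⧸ Cfsg.piCore (Cfsg.alpha M) ↥M) ∧
      Group.IsNilpotent
        ↥((commutator ↥M).map (QuotientGroup.mk' (Cfsg.piCore (Cfsg.alpha M) ↥M))) := by
  haveI hsimple : IsSimpleGroup G := hG.2.1
  have hperf : commutator G = ⊤ := commutator_eq_top_of_simple hG.2.1 hG.2.2.1
  haveI hMsolv : Group.IsSolvable M := hG.2.2.2 M hM.1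
  have hMsub : Cfsg.alpha M ⊆ Cfsg.sigma M := fun p hp => alpha_subset_sigma hG h1403 M hM hp
  obtain ⟨π, hπ⟩ : ∃ π : Set ℕ, π = Cfsg.alpha M := ⟨_, rfl⟩
  obtain ⟨N, hNdef⟩ : ∃ N : Subgroup M, N = Cfsg.piCore π M := ⟨_, rfl⟩
  haveI hNn : N.Normal := hNdef ▸ inferInstance
  have hNpi : ∀ p : ℕ, p.Prime → p ∣ Nat.card N → p ∈ π :=
    hNdef ▸ Cfsg.Agent.S3743.piCore_isPi π
  -- cores of the quotient
  have hcore : ∀ p : ℕ, p.Prime → p ∈ π → ∀ Q : Subgroup (M ⧸ N), Q.Normal → IsPGroup p Q →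
      Q = ⊥ := by
    intro p hp hpπ
    haveI : Fact p.Prime := ⟨hp⟩
    subst hNdef
    exact fun Q hQn hQ => normal_pGroup_quot_piCore_eq_bot π hpπ Q hQn hQ
  -- rank at most 2 outside π, lifted to the quotient
  have hlift : ∀ q : ℕ, q.Prime → q ∉ π → Cfsg.PRankLE q 2 (M ⧸ N) := by
    intro q hq hqπ
    haveI : Fact q.Prime := ⟨hq⟩
    have hr : Cfsg.PRankLE q 2 M := by
      by_contra h
      exact hqπ (hπ ▸ ⟨hq, h⟩)
    refine Cfsg.Agent.Lib.Helper2.QdR.prankLE_quotient hr N ?_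
    intro x hx hxq
    by_contra hx1
    have hord : orderOf x = q := orderOf_eq_prime hxq hx1
    have hdvd : q ∣ Nat.card N := by
      rw [← hord]; exact Subgroup.orderOf_dvd_natCard _ hx
    exact hqπ (hNpi q hq hdvd)
  -- the Fitting subgroup of the quotient has rank at most 2
  have hFrank : Cfsg.RankLE 2 (Cfsg.fittingSubgroup (M ⧸ N)) := by
    intro q hq
    haveI : Fact q.Prime := ⟨hq⟩
    by_cases hqπ : q ∈ π
    · haveI : (Cfsg.fittingSubgroup (M ⧸ N)).Normal :=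
        Subgroup.sSup_normal _ (fun _ h => h.1)
      exact pRankLE_of_not_dvd_card 2
        (not_dvd_card_of_normal_nilpotent_of_core (hcore q hq hqπ) _
          Cfsg.Agent.Lib.Helper71.fittingSubgroup_isNilpotent)
    · exact pRankLE_of_subgroup (hlift q hq hqπ) _
  have hodd : Odd (Nat.card (M ⧸ N)) := by
    have h1 : Nat.card (M ⧸ N) ∣ Nat.card G := by
      rw [← Subgroup.index_eq_card]
      exact (Subgroup.index_dvd_card N).trans (Subgroup.card_subgroup_dvd_card M)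
    exact Odd.of_dvd_nat hG.1 h1
  have hnilp : Group.IsNilpotent ↥(commutator (M ⧸ N)) :=
    (Cfsg.Agent.S1451.result hodd (Or.inr hFrank)).1
  have hmapc : (commutator M).map (QuotientGroup.mk' N) = commutator (M ⧸ N) := by
    rw [commutator_def, commutator_def, Subgroup.map_commutator,
      Subgroup.map_top_of_surjective _ (QuotientGroup.mk'_surjective N)]
  -- Sylow subgroups for primes in π lie in N
  have hsyl : ∀ p : ℕ, p.Prime → p ∈ π → ∃ P : Subgroup M, P ≤ N ∧ ¬ p ∣ P.index ∧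
      ¬ p ∣ (P.map M.subtype).index := by
    intro p hp hpπ
    haveI : Fact p.Prime := ⟨hp⟩
    have hpσ : p ∈ Cfsg.sigma M := hMsub (hπ ▸ hpπ)
    obtain ⟨P, hPN⟩ := hpσ.2.2
    have hidx := not_dvd_index_of_normalizer_le M P hPN
    have hPc := sylow_le_commutator_of_control hperf M P hPN
      (fun X hXp hX1 hXM => (h1404 M hM p hpσ X hXp hX1 hXM).1)
    refine ⟨P, ?_, P.not_dvd_index, hidx⟩
    have hPc' : (P : Subgroup M) ≤ commutator M := by
      intro x hx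
      have h1 : (x : G) ∈ ⁅M, M⁆ := hPc ⟨x, hx, rfl⟩
      rw [← Subgroup.map_subtype_commutator] at h1
      obtain ⟨y, hy, hyx⟩ := h1
      have : y = x := Subtype.ext hyx
      exact this ▸ hy
    have hPbar : (P : Subgroup M).map (QuotientGroup.mk' N) ≤ commutator (M ⧸ N) := by
      rw [← hmapc]; exact Subgroup.map_mono hPc'
    have hnd : ¬ p ∣ Nat.card (commutator (M ⧸ N)) :=
      not_dvd_card_of_normal_nilpotent_of_core (hcore p hp hpπ) _ hnilp
    have hbot : (P : Subgroup M).map (QuotientGroup.mk' N) = ⊥ :=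
      pGroup_eq_bot_of_le_of_not_dvd (P.isPGroup'.map _) hPbar hnd
    intro x hx
    have h1 : QuotientGroup.mk' N x ∈ (P : Subgroup M).map (QuotientGroup.mk' N) :=
      ⟨x, hx, rfl⟩
    rw [hbot, Subgroup.mem_bot] at h1
    exact (QuotientGroup.eq_one_iff _).mp h1
  have hNidx : ∀ p : ℕ, p.Prime → p ∈ π → ¬ p ∣ N.index := by
    intro p hp hpπ hdvd
    obtain ⟨P, hPN, hPidx, -⟩ := hsyl p hp hpπ
    exact hPidx (hdvd.trans (Subgroup.index_dvd_of_le hPN))
  have hcardmap : Nat.card (N.map M.subtype) = Nat.card N :=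
    Subgroup.card_map_of_injective M.subtype_injective
  have hrel : (N.map M.subtype).relIndex M = N.index := by
    rw [Subgroup.relIndex]
    congr 1
    ext x
    simp [Subgroup.mem_subgroupOf]
  subst hπ
  subst hNdef
  refine ⟨⟨Subgroup.map_subtype_le _, ?_, ?_⟩, ⟨?_, ?_⟩, ?_, ?_, ?_⟩
  · intro p hp hdvd
    exact hNpi p hp (hcardmap ▸ hdvd)
  · intro p hp hpπ hdvd
    exact hNidx p hp hpπ (hrel ▸ hdvd)
  · intro p hp hdvd
    exact hNpi p hp (hcardmap ▸ hdvd)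
  · intro p hp hpπ hdvd
    obtain ⟨P, hPN, -, hPidx⟩ := hsyl p hp hpπ
    exact hPidx (hdvd.trans (Subgroup.index_dvd_of_le (Subgroup.map_mono hPN)))
  · refine Subgroup.map_mono (le_sSup ⟨inferInstance, ?_⟩)
    intro p hp hdvd
    exact hMsub (hNpi p hp hdvd)
  · intro q hq
    haveI : Fact q.Prime := ⟨hq⟩
    by_cases hqπ : q ∈ Cfsg.alpha M
    · refine pRankLE_of_not_dvd_card 2 ?_
      rw [← Subgroup.index_eq_card]
      exact hNidx q hq hqπ
    · exact hlift q hq hqπ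
  · rw [hmapc]
    exact hnilp

end Cfsg.Agent.Lib.Helper78.BG
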