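import Mathlib
import Cfsg.Prelude.Def_OddOrderLocal
import Cfsg.Statements.S1350
import Cfsg.Statements.S1352
import Cfsg.Statements.S1364
import Cfsg.Statements.S1403
import Cfsg.Statements.S1416
import Cfsg.Statements.S1417
import Cfsg.Statements.S1418
import Cfsg.Statements.S1419
import Cfsg.Statements.S1430
import Cfsg.Statements.S1431
import Cfsg.Agent.Lib.Helper78.BG.S1376Aux
import Cfsg.Agent.Lib.Helper78.BG.S1405Core
import Cfsg.Agent.Lib.Helper78.BG.S1389Core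
import Cfsg.Agent.Lib.Helper67.BG.Basics
import Cfsg.Agent.Lib.Helper67.BG.HallUtil
import Cfsg.Agent.Lib.Helper67.BG.FitUtil
import Cfsg.Agent.Lib.Helper13.BG.Tools
import Cfsg.Agent.Lib.Helper13.BG.S1427A
import Cfsg.Agent.Lib.Helper35.BG.FrobQ
import Cfsg.Agent.Lib.Helper35.BG.S1355Core
import Cfsg.Agent.Lib.Helper71.BG.TypeBasics
import Cfsg.Agent.Lib.Helper71.BG.TypeBasics2
import Cfsg.Agent.Lib.Helper74.BG.S1425Core
import Cfsg.Agent.Lib.Helper27.BG.SigmaBasic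
import Cfsg.Agent.Lib.Helper1.MixBase

/-!
Statement S1376 (helper78), part: in the situation of S1376 the maximal subgroup `H` (the
statement's `M`) has `τ₂(H) = ∅`.
-/

set_option autoImplicit false

namespace Cfsg.Agent.Lib.Helper78.BG

open Cfsg Cfsg.Agent.Lib.Helper46 Cfsg.Agent.Lib.Helper35.BG
open Cfsg.Agent.Lib.Helper67.BG (sigmaCore_le sigmaCore_isPi sigmaCore_normalizer)
open scoped Pointwise

variable {G : Type*} [Group G] [Finite G]

/-- The Sylow `r`-subgroup `Q` of `M*_σ` containing `K` (of prime order `r`): it is normal in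
`M*` and `M*` is the only maximal subgroup containing it. -/
theorem s1376_exists_Q (hG : IsMinSimpleOddOrder G)
    (h1352 : type_of% (@Cfsg.CfsgFrozen.S1352 G _ _ hG))
    (h1364 : type_of% (@Cfsg.CfsgFrozen.S1364 G _ _ hG))
    (h1431 : type_of% (@Cfsg.CfsgFrozen.S1431 G _ _ hG))
    (M Mstar K U : Subgroup G) (hM : IsCoatom M) (hMstar : IsCoatom Mstar)
    (hKU : IsSigmaDecomposition M K U) (hK1 : K ≠ ⊥)
    (hKst : K = sigmaCore Mstar ⊓ Subgroup.centralizer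
      ((sigmaCore M ⊓ Subgroup.centralizer (K : Set G) : Subgroup G) : Set G))
    (hKstH : IsPiHallOf (kappa Mstar) (sigmaCore M ⊓ Subgroup.centralizer (K : Set G)) Mstar)
    (r : ℕ) [Fact r.Prime] (hKr : Nat.card K = r) :
    ∃ Q : Subgroup G, IsSylowIn r Q (sigmaCore Mstar) ∧ K ≤ Q ∧
      Mstar ≤ Subgroup.normalizer (Q : Set G) ∧
      ∀ L : Subgroup G, IsCoatom L → Q ≤ L → L = Mstar := by
  obtain ⟨hKsc, hKs1, -, -⟩ := h1364 M hM K U hKU hK1
  obtain ⟨⟨Us, hUs⟩, -⟩ := h1352 Mstar hMstar _ hKsc hKstH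
  obtain ⟨-, -, hKF, -⟩ := h1364 Mstar hMstar _ Us hUs hKs1
  rw [← hKst] at hKF
  have hKp : IsPGroup r K := IsPGroup.of_card (n := 1) (by rw [hKr, pow_one])
  have hKσ : K ≤ sigmaCore Mstar := hKst.le.trans inf_le_left
  obtain ⟨Q, hQ, hKQ⟩ := exists_isSylowIn_ge hKp hKσ
  have hr : r.Prime := Fact.out
  have hrK : r ∣ Nat.card K := by rw [hKr]
  have hrF : r ∣ Nat.card (fittingHallOf Mstar) := hrK.trans (Subgroup.card_dvd_of_le hKF)
  have hnd : ¬ r ∣ (fittingHallOf Mstar).relIndex Mstar :=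
    Cfsg.Agent.Lib.Helper71.BG.not_dvd_of_coprime_of_dvd hr
      (Cfsg.Agent.Lib.Helper71.BG.fittingHallOf_coprime Mstar) hrF
  have hQF : Q ≤ fittingHallOf Mstar := by
    apply Cfsg.Agent.Lib.Helper27.BG.le_of_coprime_relIndex
      (Cfsg.Agent.Lib.Helper71.BG.fittingHallOf_le' Mstar)
      (Cfsg.Agent.Lib.Helper71.BG.le_normalizer_fittingHallOf Mstar)
      (hQ.1.trans (sigmaCore_le Mstar))
    rw [hQ.2]
    exact Nat.Coprime.pow_left _ ((Nat.Prime.coprime_iff_not_dvd hr).mpr hnd)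
  have hQF' : IsSylowIn r Q (fittingHallOf Mstar) :=
    sylIn_mono hQ hQF (fittingHallOf_le_sigmaCore hG Mstar hMstar)
  have hQn : Mstar ≤ Subgroup.normalizer (Q : Set G) :=
    (Cfsg.Agent.Lib.Helper71.BG.le_normalizer_fittingHallOf Mstar).trans
      (normalizer_le_normalizer_sylIn_of_nilpotent
        (Cfsg.Agent.Lib.Helper71.BG.fittingHallOf_isNilpotent Mstar) hQF')
  obtain ⟨S, hS⟩ := hQ.exists_sylow
  have hdvd : r ∣ Nat.card ↥(sigmaCore Mstar ⊓ Subgroup.centralizer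
      ((sigmaCore M ⊓ Subgroup.centralizer (K : Set G) : Subgroup G) : Set G)) := by
    rw [← hKst]; exact hrK
  have h3 := (h1431 Mstar hMstar _ hKstH hKs1).2.2.1 r hr hdvd S
  obtain ⟨hIU, -, -⟩ := h3
  rw [hS] at hIU
  obtain ⟨L0, ⟨hL0, hQL0⟩, huniq⟩ := hIU
  refine ⟨Q, hQ, hKQ, hQn, ?_⟩
  intro L hL hQL
  have h1 : L = L0 := huniq L ⟨hL, hQL⟩
  have h2 : Mstar = L0 := huniq Mstar ⟨hMstar, hQ.1.trans (sigmaCore_le Mstar)⟩
  rw [h1, h2]

/-- A `q`-subgroup `A` of `M*_σ` (with `q ≠ r`) centralized by `K` is centralized by the normal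
Sylow `r`-subgroup `Q` of `M*_σ` (Frobenius fixed point formula for `K₀ S₀` acting on `Q`). -/
theorem s1376_centralizes (hG : IsMinSimpleOddOrder G)
    (h1430 : type_of% (@Cfsg.CfsgFrozen.S1430 G _ _ hG))
    (Mstar Ks K : Subgroup G) (hMstar : IsCoatom Mstar) (hKs1 : Ks ≠ ⊥)
    (hKst : K = sigmaCore Mstar ⊓ Subgroup.centralizer (Ks : Set G))
    (hKstH : IsPiHallOf (kappa Mstar) Ks Mstar)
    (hKsK : Ks ≤ Subgroup.centralizer (K : Set G))
    (r : ℕ) [Fact r.Prime] (hKr : Nat.card K = r)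
    (Q : Subgroup G) (hQ : IsSylowIn r Q (sigmaCore Mstar)) (hKQ : K ≤ Q)
    (hQn : Mstar ≤ Subgroup.normalizer (Q : Set G))
    (q : ℕ) [Fact q.Prime] (hqr : q ≠ r) (A : Subgroup G) (hAq : IsPGroup q A)
    (hAσ : A ≤ sigmaCore Mstar) (hAK : ∀ k ∈ K, ∀ a ∈ A, k * a = a * k) :
    Q ≤ Subgroup.centralizer (A : Set G) := by
  have hr : r.Prime := Fact.out
  have hq : q.Prime := Fact.out
  have hKp : IsPGroup r K := IsPGroup.of_card (n := 1) (by rw [hKr, pow_one])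
  -- a subgroup `K0` of prime order `t` of `Ks`
  obtain ⟨t, ht, htdvd⟩ : ∃ t, t.Prime ∧ t ∣ Nat.card Ks := by
    apply Nat.exists_prime_and_dvd
    intro h1
    exact hKs1 (Subgroup.card_eq_one.mp h1)
  haveI : Fact t.Prime := ⟨ht⟩
  obtain ⟨k0', hk0'⟩ := exists_prime_orderOf_dvd_card' (G := Ks) t htdvd
  have hk0o : orderOf (k0' : G) = t := by rw [Subgroup.orderOf_coe]; exact hk0'
  have hk0Ks : (k0' : G) ∈ Ks := k0'.2
  have hK0c : Nat.card (Subgroup.zpowers (k0' : G)) = t := by rw [Nat.card_zpowers, hk0o]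
  have hK0Ks : Subgroup.zpowers (k0' : G) ≤ Ks := by rw [Subgroup.zpowers_le]; exact hk0Ks
  have hK0p : IsPGroup t (Subgroup.zpowers (k0' : G)) :=
    IsPGroup.of_card (n := 1) (by rw [hK0c, pow_one])
  have hK01 : Subgroup.zpowers (k0' : G) ≠ ⊥ := by
    intro h
    rw [h, Subgroup.card_bot] at hK0c
    exact ht.one_lt.ne hK0c
  have htκ : t ∈ kappa Mstar := hKstH.2.1 t ht htdvd
  have htσ : t ∉ sigma Mstar := htκ.2.2.1
  have htnd : ¬ t ∣ Nat.card (sigmaCore Mstar) := fun h => htσ (sigmaCore_isPi Mstar t ht h)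
  have hrσ : r ∈ sigma Mstar := by
    apply sigmaCore_isPi Mstar r hr
    rw [← hKr]
    exact Subgroup.card_dvd_of_le (hKst.le.trans inf_le_left)
  have hrt : r ≠ t := fun h => htσ (h ▸ hrσ)
  have hK0M : Subgroup.zpowers (k0' : G) ≤ Mstar := hK0Ks.trans hKstH.1
  have hK0n : Subgroup.zpowers (k0' : G) ≤ Subgroup.normalizer
      ((sigmaCore Mstar ⊓ Subgroup.centralizer (K : Set G) : Subgroup G) : Set G) :=
    le_normalizer_inf_of_le (hK0M.trans (sigmaCore_normalizer Mstar))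
      ((hK0Ks.trans hKsK).trans Subgroup.le_normalizer)
  have hnd : ¬ t ∣ Nat.card (Sylow q ↥(sigmaCore Mstar ⊓ Subgroup.centralizer (K : Set G))) := by
    intro h
    exact htnd ((h.trans (Cfsg.Agent.Lib.Helper13.BG.card_sylow_dvd_card _)).trans
      (Subgroup.card_dvd_of_le inf_le_left))
  obtain ⟨S0, hS0, hK0S0⟩ :=
    Cfsg.Agent.Lib.Helper13.BG.exists_normalized_sylow (q := q) hK0p hK0n hnd
  have hADK : A ≤ sigmaCore Mstar ⊓ Subgroup.centralizer (K : Set G) := by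
    intro a ha
    exact ⟨hAσ ha, Subgroup.mem_centralizer_iff.mpr (fun k hk => hAK k hk a ha)⟩
  obtain ⟨S1, hS1, hAS1⟩ := exists_isSylowIn_ge hAq hADK
  obtain ⟨d, hd, hS1eq⟩ := hS0.exists_conj hS1
  have h30 := (h1430 Mstar hMstar Ks hKstH hKs1).1
  have hfpf : ∀ k ∈ Subgroup.zpowers (k0' : G), k ≠ 1 → ∀ s ∈ S0, k * s = s * k → s = 1 := by
    intro k hk hk1 s hs hks
    have h1 := h30 k (hK0Ks hk) hk1
    have hsK : s ∈ K := by
      apply hKst.ge
      apply h1.le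
      refine ⟨(hS0.1 hs).1, Subgroup.mem_centralizer_iff.mpr ?_⟩
      intro y hy
      rw [Set.mem_singleton_iff.mp hy]
      exact hks
    have hdisj : Disjoint K S0 :=
      IsPGroup.disjoint_of_ne r q (Ne.symm hqr) K S0 hKp (sylIn_isPGroup hS0)
    exact Subgroup.disjoint_def.mp hdisj hsK hs
  haveI hQnil : Group.IsNilpotent Q := (sylIn_isPGroup hQ).isNilpotent
  have hsolv : Group.IsSolvable Q := inferInstance
  have hcop : (Nat.card Q).Coprime (Nat.card ↥(S0 ⊔ Subgroup.zpowers (k0' : G))) := by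
    have h1 : Nat.card ↥(S0 ⊔ Subgroup.zpowers (k0' : G)) ∣
        Nat.card S0 * Nat.card (Subgroup.zpowers (k0' : G)) := by
      rw [sup_comm, mul_comm]
      exact Cfsg.Agent.Lib.Helper1.Mix.card_sup_dvd _ _ hK0S0
    rw [hS0.2, hK0c] at h1
    rw [hQ.2]
    apply Nat.Coprime.coprime_dvd_right h1
    apply Nat.Coprime.pow_left
    apply Nat.Coprime.mul_right
    · exact Nat.Coprime.pow_right _ ((Nat.coprime_primes hr hq).mpr (Ne.symm hqr))
    · exact (Nat.coprime_primes hr ht).mpr hrt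
  have hprime : ∀ k ∈ Subgroup.zpowers (k0' : G), k ≠ 1 →
      Q ⊓ Subgroup.centralizer ({k} : Set G) = K := by
    intro k hk hk1
    have h1 := h30 k (hK0Ks hk) hk1
    apply le_antisymm
    · intro y hy
      exact hKst.ge (h1.le ⟨hQ.1 hy.1, hy.2⟩)
    · intro y hy
      have h2 := h1.ge (hKst.le hy)
      exact ⟨hKQ hy, h2.2⟩
  have hS0Q : S0 ≤ Subgroup.normalizer (Q : Set G) :=
    hS0.1.trans (inf_le_left.trans ((sigmaCore_le Mstar).trans hQn))
  have hK0Q : Subgroup.zpowers (k0' : G) ≤ Subgroup.normalizer (Q : Set G) := hK0M.trans hQn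
  have hfrob := frob_core Q S0 (Subgroup.zpowers (k0' : G)) K hK0S0 hK01 hfpf hsolv hcop hprime
    (Subgroup.zpowers (k0' : G)) le_rfl hK01 Q le_rfl hS0Q hK0Q
  have e1 : Q ⊓ K ⊓ Subgroup.centralizer (S0 : Set G) = Q ⊓ K := by
    apply inf_eq_left.mpr
    intro y hy
    rw [Subgroup.mem_centralizer_iff]
    intro s hs
    have hsc : s ∈ Subgroup.centralizer (K : Set G) := (hS0.1 hs).2
    exact ((Subgroup.mem_centralizer_iff.mp hsc) y hy.2).symm
  rw [e1] at hfrob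
  have hpos : 0 < Nat.card ↥(Q ⊓ K) ^ Nat.card (Subgroup.zpowers (k0' : G)) :=
    pow_pos Nat.card_pos _
  have hcard : Nat.card Q = Nat.card ↥(Q ⊓ Subgroup.centralizer (S0 : Set G)) :=
    Nat.eq_of_mul_eq_mul_left hpos hfrob
  have hQS0 : Q ≤ Subgroup.centralizer (S0 : Set G) := by
    have h1 : Q ⊓ Subgroup.centralizer (S0 : Set G) = Q :=
      Subgroup.eq_of_le_of_card_ge inf_le_left (le_of_eq hcard)
    exact inf_eq_left.mp h1
  have hdM : d ∈ Mstar := sigmaCore_le Mstar hd.1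
  intro y hy
  rw [Subgroup.mem_centralizer_iff]
  intro a ha
  have haS1 := hAS1 ha
  rw [hS1eq] at haS1
  obtain ⟨s, hs, rfl⟩ := Subgroup.mem_map.mp haS1
  have hy' : d⁻¹ * y * d⁻¹⁻¹ ∈ Q :=
    (Subgroup.mem_normalizer_iff.mp (hQn (Mstar.inv_mem hdM)) y).mp hy
  have h := (Subgroup.mem_centralizer_iff.mp (hQS0 hy')) s hs
  simp only [MulEquiv.coe_toMonoidHom, MulAut.conj_apply]
  calc d * s * d⁻¹ * y = d * (s * (d⁻¹ * y * d⁻¹⁻¹)) * d⁻¹ := by group
    _ = d * ((d⁻¹ * y * d⁻¹⁻¹) * s) * d⁻¹ := by rw [h]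
    _ = y * (d * s * d⁻¹) := by group

/-- In the situation of S1376, `τ₂(H) = ∅`. -/
theorem s1376_tau2_empty (hG : IsMinSimpleOddOrder G)
    (h1350 : type_of% (@Cfsg.CfsgFrozen.S1350 G _ _ hG))
    (h1352 : type_of% (@Cfsg.CfsgFrozen.S1352 G _ _ hG))
    (h1364 : type_of% (@Cfsg.CfsgFrozen.S1364 G _ _ hG))
    (h1403 : type_of% (@Cfsg.CfsgFrozen.S1403 G _ _ hG))
    (h1416 : type_of% (@Cfsg.CfsgFrozen.S1416 G _ _ hG))
    (h1417 : type_of% (@Cfsg.CfsgFrozen.S1417 G _ _ hG))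
    (h1418 : type_of% (@Cfsg.CfsgFrozen.S1418 G _ _ hG))
    (h1419 : type_of% (@Cfsg.CfsgFrozen.S1419 G _ _ hG))
    (h1430 : type_of% (@Cfsg.CfsgFrozen.S1430 G _ _ hG))
    (h1431 : type_of% (@Cfsg.CfsgFrozen.S1431 G _ _ hG))
    (H M Mstar K U : Subgroup G) (hH : IsCoatom H) (hM : IsCoatom M) (hMstar : IsCoatom Mstar)
    (hKU : IsSigmaDecomposition M K U) (hK1 : K ≠ ⊥)
    (hKst : K = sigmaCore Mstar ⊓ Subgroup.centralizer
      ((sigmaCore M ⊓ Subgroup.centralizer (K : Set G) : Subgroup G) : Set G))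
    (hKstH : IsPiHallOf (kappa Mstar) (sigmaCore M ⊓ Subgroup.centralizer (K : Set G)) Mstar)
    (hKprime : (Nat.card K).Prime)
    (hE : IsComplIn (H ⊓ Mstar) (sigmaCore H) H) (hKF : K ≤ fittingOf (H ⊓ Mstar))
    (x : G) (hx : x ∈ sigmaCore H) (hx1 : x ≠ 1)
    (hEx : ∀ e ∈ H ⊓ Mstar, e * x = x * e → e = 1) : tau2 H = ∅ := by
  rw [Set.eq_empty_iff_forall_notMem]
  intro q hq
  haveI : Fact q.Prime := ⟨hq.1⟩
  haveI hrF : Fact (Nat.card K).Prime := ⟨hKprime⟩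
  obtain ⟨hKsc, hKs1, -, -⟩ := h1364 M hM K U hKU hK1
  obtain ⟨Q, hQ, hKQ, hQn, hQuniq⟩ := s1376_exists_Q hG h1352 h1364 h1431 M Mstar K U hM hMstar
    hKU hK1 hKst hKstH (Nat.card K) rfl
  have hHne : H ≠ Mstar := by
    intro h
    apply hx1
    exact hEx x ⟨sigmaCore_le H hx, h ▸ sigmaCore_le H hx⟩ rfl
  have hQH : ¬ Q ≤ H := fun h => hHne (hQuniq H hH h)
  have hKE : K ≤ H ⊓ Mstar := hKF.trans (Cfsg.Agent.Lib.Helper67.BG.fittingOf_le (H ⊓ Mstar))
  obtain ⟨A, hAE, hAea, hAc⟩ := Cfsg.Agent.Lib.Helper67.BG.exists_ea_sq_le_compl hE hq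
  have hAH : A ≤ H := hAE.trans inf_le_left
  have hAMs : A ≤ Mstar := hAE.trans inf_le_right
  have hCA : Subgroup.centralizer (A : Set G) ≤ H := (h1416 H hH q A ⟨hAH, hAea, hAc⟩).1
  have hEA : H ⊓ Mstar ≤ Subgroup.normalizer (A : Set G) :=
    (h1418 H hH _ hE q hq A ⟨hAE, hAea, hAc⟩).1.1
  have hAp : IsPGroup q A := IsPGroup.of_card (n := 2) hAc
  -- `q ∈ σ(M*)`
  have hqσ : q ∈ sigma Mstar := by
    by_contra hqσ
    have hq2 : q ∈ tau2 Mstar := by
      refine ⟨hq.1, hqσ, ?_, Cfsg.Agent.Lib.Helper13.BG.not_pRankLE_one_of_le hAea hAc hAMs⟩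
      by_contra h2
      exact hqσ (alpha_subset_sigma hG h1403 Mstar hMstar ⟨hq.1, h2⟩)
    have h5 := (h1417 Mstar hMstar q hq2 A ⟨hAMs, hAea, hAc⟩).2.2.2.2.1 H hH hHne hAH
    apply hK1
    rw [eq_bot_iff, ← h5]
    exact le_inf (hKst.le.trans inf_le_left) (hKE.trans inf_le_left)
  have hAσ : A ≤ sigmaCore Mstar := by
    apply Cfsg.Agent.Lib.Helper74.BG.le_sigmaCore_of_le (h1350 Mstar hMstar).1 hAMs
    intro p hp hdvd
    rw [Cfsg.Agent.Lib.Helper67.BG.prime_eq_of_dvd_card_isPGroup hAp hp hdvd]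
    exact hqσ
  by_cases hqr : q = Nat.card K
  · -- the case `q = r`
    have hQ' : IsSylowIn q Q (sigmaCore Mstar) := by rw [hqr]; exact hQ
    have hAQ : A ≤ Q :=
      le_of_sylIn_of_le_normalizer hQ' ((sigmaCore_le Mstar).trans hQn) hAp hAσ
    by_cases hQab : ∀ a ∈ Q, ∀ b ∈ Q, a * b = b * a
    · apply hQH
      refine le_trans ?_ hCA
      intro y hy
      rw [Subgroup.mem_centralizer_iff]
      intro a ha
      exact hQab a (hAQ ha) y hy
    · have hSna : ∀ S : Sylow q G, ¬ IsMulCommutative (S : Subgroup G) := by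
        intro S hS
        apply hQab
        obtain ⟨S', hS'⟩ := (sylIn_isPGroup hQ').exists_le_sylow
        obtain ⟨g, hg⟩ := MulAction.exists_smul_eq G S' S
        have hcomm := isMulCommutative_subgroup_iff.mp hS
        have hmem : ∀ y ∈ Q, g * y * g⁻¹ ∈ (S : Subgroup G) := by
          intro y hy
          have hyS' : y ∈ (S' : Subgroup G) := hS' hy
          rw [← hg, Sylow.coe_subgroup_smul, Subgroup.mem_pointwise_smul_iff_inv_smul_mem]
          simpa [MulAut.smul_def, mul_assoc] using hyS'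
        intro a ha b hb
        have h := hcomm _ (hmem a ha) _ (hmem b hb)
        have e1 : a * b = g⁻¹ * ((g * a * g⁻¹) * (g * b * g⁻¹)) * g := by group
        rw [e1, h]; group
      have h19 := (h1419 H hH _ hE q hq hSna A ⟨hAE, hAea, hAc⟩).2.1.1
      have hne : A ⊓ Subgroup.centralizer (sigmaCore H : Set G) ≠ ⊥ := by
        intro hb
        rw [hb, Subgroup.card_bot] at h19
        exact hq.1.one_lt.ne h19
      obtain ⟨⟨a, ha⟩, ha1⟩ := (Subgroup.ne_bot_iff_exists_ne_one).mp hne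
      apply ha1
      apply Subtype.ext
      exact hEx a (hAE ha.1) ((Subgroup.mem_centralizer_iff.mp ha.2) x hx).symm
  · -- the case `q ≠ r`
    have hAF : A ≤ fittingOf (H ⊓ Mstar) :=
      Cfsg.Agent.Lib.Helper67.BG.le_fittingOf_of_normal_nilpotent hAE hEA hAp.isNilpotent
    have hKp : IsPGroup (Nat.card K) K := IsPGroup.of_card (n := 1) (by rw [pow_one])
    have hcomm := commute_of_isPGroup_of_nilpotent (Ne.symm hqr)
      (Cfsg.Agent.Lib.Helper67.BG.fittingOf_isNilpotent (H ⊓ Mstar)) hKp hAp hKF hAF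
    have hQcA := s1376_centralizes hG h1430 Mstar _ K hMstar hKs1 hKst hKstH inf_le_right
      (Nat.card K) rfl Q hQ hKQ hQn q hqr A hAp hAσ hcomm
    exact hQH (hQcA.trans hCA)

end Cfsg.Agent.Lib.Helper78.BG
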