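import Mathlib
import Cfsg.Prelude.Def_OddOrderLocal
import Cfsg.Statements.S1350
import Cfsg.Statements.S1351
import Cfsg.Statements.S1352
import Cfsg.Statements.S1353
import Cfsg.Statements.S1363
import Cfsg.Statements.S1364
import Cfsg.Statements.S1366
import Cfsg.Statements.S1372
import Cfsg.Statements.S1375
import Cfsg.Statements.S1378
import Cfsg.Statements.S1403
import Cfsg.Statements.S1409
import Cfsg.Statements.S1415
import Cfsg.Statements.S1416
import Cfsg.Statements.S1417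
import Cfsg.Statements.S1418
import Cfsg.Statements.S1419
import Cfsg.Statements.S1420
import Cfsg.Statements.S1424
import Cfsg.Statements.S1429
import Cfsg.Statements.S1430
import Cfsg.Statements.S1431
import Cfsg.Statements.S1435
import Cfsg.Statements.S1439
import Cfsg.Agent.Lib.Helper78.BG.S1376Tau2
import Cfsg.Agent.Lib.Helper44.BG.S1375Core
import Cfsg.Agent.Lib.Helper71.BG.WeakCores

/-!
Statement S1376 (Bender–Glauberman, Corollary 15.9) with S1350, S1351, S1352, S1353, S1363,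
S1364, S1366, S1372, S1375, S1378, S1403, S1409, S1415–S1420, S1424, S1429, S1430, S1431, S1435,
S1439 and the weak form of S1440 as hypotheses (helper78).

Notation of the proof: `H` is the statement's `M` (with `x ∈ H_σ`, `C_G(x) ≰ H`) and `M` is the
statement's `N` (the maximal subgroup over `C_G(x)`, with `κ(M) ≠ ∅`).
-/

set_option autoImplicit false

namespace Cfsg.Agent.Lib.Helper78.BG

open Cfsg Cfsg.Agent.Lib.Helper46 Cfsg.Agent.Lib.Helper35.BG
open Cfsg.Agent.Lib.Helper67.BG (sigmaCore_le sigmaCore_isPi sigmaCore_normalizer)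
open scoped Pointwise

variable {G : Type*} [Group G] [Finite G]

omit [Finite G] in
/-- Elements of `A ⊔ B` are products when `A` normalizes `B`. -/
theorem exists_mul_of_mem_sup_of_left_le_normalizer {A B : Subgroup G}
    (h : A ≤ Subgroup.normalizer (B : Set G)) {y : G} (hy : y ∈ A ⊔ B) :
    ∃ a ∈ A, ∃ b ∈ B, y = a * b := by
  have h1 : y ∈ ((A ⊔ B : Subgroup G) : Set G) := hy
  rw [Subgroup.coe_mul_of_left_le_normalizer_right A B h] at h1
  obtain ⟨a, ha, b, hb, hab⟩ := Set.mem_mul.mp h1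
  exact ⟨a, ha, b, hb, hab.symm⟩

/-- Statement S1376 from the earlier statements. -/
theorem s1376_core (hG : IsMinSimpleOddOrder G)
    (h1350 : type_of% (@Cfsg.CfsgFrozen.S1350 G _ _ hG))
    (h1351 : type_of% (@Cfsg.CfsgFrozen.S1351 G _ _ hG))
    (h1352 : type_of% (@Cfsg.CfsgFrozen.S1352 G _ _ hG))
    (h1353 : type_of% (@Cfsg.CfsgFrozen.S1353 G _ _ hG))
    (h1363 : type_of% (@Cfsg.CfsgFrozen.S1363 G _ _ hG))
    (h1364 : type_of% (@Cfsg.CfsgFrozen.S1364 G _ _ hG))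
    (h1366 : type_of% (@Cfsg.CfsgFrozen.S1366 G _ _ hG))
    (h1372 : type_of% (@Cfsg.CfsgFrozen.S1372 G _ _ hG))
    (h1375 : type_of% (@Cfsg.CfsgFrozen.S1375 G _ _ hG))
    (h1378 : type_of% (@Cfsg.CfsgFrozen.S1378 G _ _ hG))
    (h1403 : type_of% (@Cfsg.CfsgFrozen.S1403 G _ _ hG))
    (h1409 : type_of% (@Cfsg.CfsgFrozen.S1409 G _ _ hG))
    (h1415 : type_of% (@Cfsg.CfsgFrozen.S1415 G _ _ hG))
    (h1416 : type_of% (@Cfsg.CfsgFrozen.S1416 G _ _ hG))
    (h1417 : type_of% (@Cfsg.CfsgFrozen.S1417 G _ _ hG))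
    (h1418 : type_of% (@Cfsg.CfsgFrozen.S1418 G _ _ hG))
    (h1419 : type_of% (@Cfsg.CfsgFrozen.S1419 G _ _ hG))
    (h1420 : type_of% (@Cfsg.CfsgFrozen.S1420 G _ _ hG))
    (h1424 : type_of% (@Cfsg.CfsgFrozen.S1424 G _ _ hG))
    (h1429 : type_of% (@Cfsg.CfsgFrozen.S1429 G _ _ hG))
    (h1430 : type_of% (@Cfsg.CfsgFrozen.S1430 G _ _ hG))
    (h1431 : type_of% (@Cfsg.CfsgFrozen.S1431 G _ _ hG))
    (h1435 : type_of% (@Cfsg.CfsgFrozen.S1435 G _ _ hG))
    (h1439 : type_of% (@Cfsg.CfsgFrozen.S1439 G _ _ hG))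
    (h1440w : Cfsg.Agent.Lib.Helper71.BGW.S1440Weak G)
    (H : Subgroup G) (hH : IsCoatom H) (x : G) (hx : x ∈ sigmaCore H) (hx1 : x ≠ 1)
    (hxH : ¬ Subgroup.centralizer ({x} : Set G) ≤ H)
    (M : Subgroup G) (hM : IsCoatom M) (hxM : Subgroup.centralizer ({x} : Set G) ≤ M)
    (hkM : (kappa M).Nonempty) :
    kappa H = ∅ ∧ (∃ E : Subgroup ↥H, IsFrobeniusComplement E ∧ IsCyclic E) ∧
      ¬ IsTISubset (fittingHallOf H : Set G) := by
  -- Step 1: S1375
  obtain ⟨N0, ⟨hN0, hxN0⟩, huniq, -, -, hRcompl, -, hdec⟩ := h1375 H hH x hx hx1 hxH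
  have hMN0 : M = N0 := huniq M hM hxM
  subst hMN0
  -- Step 3: the subgroup `X` of prime order `r0` and the structure of `M`
  obtain ⟨r0, k, hr0, hr0x, hr0σH, hXcard, hXH⟩ :=
    Cfsg.Agent.Lib.Helper44.BG.exists_prime_zpowers hx hx1
  have hX1 : Subgroup.zpowers (x ^ k) ≠ ⊥ := by
    intro h
    rw [h, Subgroup.card_bot] at hXcard
    exact hr0.one_lt.ne hXcard
  have hXtop : Subgroup.zpowers (x ^ k) ≠ ⊤ := fun h => hH.1 (top_le_iff.mp (h ▸ hXH))
  have hCX : Subgroup.centralizer ({x} : Set G) ≤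
      Subgroup.normalizer ((Subgroup.zpowers (x ^ k) : Subgroup G) : Set G) :=
    (Cfsg.Agent.Lib.Helper44.BG.centralizer_singleton_le_centralizer_zpowers_pow x k).trans
      (centralizer_le_normalizer' _)
  obtain ⟨N', hN', hNX'⟩ := exists_coatom_ge (normalizer_ne_top hG hX1 hXtop)
  have hN'M : N' = M := huniq N' hN' (hCX.trans hNX')
  subst hN'M
  have hMH : N' ≠ H := fun h => hxH (h ▸ hxM)
  obtain ⟨-, hr0τ, -, hσMH, hcompl'⟩ :=
    Cfsg.Agent.Lib.Helper44.BG.s1375_struct hG h1350 h1378 h1409 h1417 h1418 h1420 h1424 H hH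
      r0 hr0 hr0σH (Subgroup.zpowers (x ^ k)) hXcard hXH N' hM hNX' hMH
  -- Step 2: a standard factorisation `M = K U M_σ` with `U ≤ H`
  have hHallM := (h1350 N' hM).1
  obtain ⟨K, U, hKU, hUH⟩ : ∃ K U : Subgroup G, IsSigmaDecomposition N' K U ∧ U ≤ H := by
    obtain ⟨⟨K0, hK0⟩, hcyc⟩ := h1351 N' hM
    obtain ⟨⟨U0, hKU0⟩, -⟩ := h1352 N' hM K0 (hcyc K0 hK0) hK0
    have hcop0 : (Nat.card U0).Coprime ((H ⊓ N').relIndex N') := by
      rw [relIndex_left_of_isComplIn hcompl']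
      exact sigmaDecomposition_coprime_sigmaCore N' K0 U0 hHallM hKU0
    obtain ⟨m, hm, hUm⟩ := Cfsg.Agent.Lib.Helper74.BG.exists_mem_conj_le_of_coprime_relIndex
      (isSolvable_of_ne_top hG hM.1) hKU0.compl.1 hcop0
    exact ⟨_, _, sigmaDecomposition_conj N' K0 U0 hKU0 m hm, hUm.trans inf_le_left⟩
  have hK1 : K ≠ ⊥ := Cfsg.Agent.Lib.Helper71.BG.ne_bot_of_kappa_nonempty hKU.hall hkM
  obtain ⟨hU1, hxA, -⟩ := hdec K U hKU
  have hUM : U ≤ N' := hKU.compl.1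
  have hxU : x ∈ U := by
    have h1 : x ∈ U ⊔ sigmaCore N' := hxA.2
    obtain ⟨u, hu, s, hs, hus⟩ :=
      exists_mul_of_mem_sup_of_left_le_normalizer (hUM.trans (sigmaCore_normalizer N')) h1
    have hsH : s ∈ H := by
      have e1 : s = u⁻¹ * x := by rw [hus]; group
      rw [e1]
      exact H.mul_mem (H.inv_mem (hUH hu)) (sigmaCore_le H hx)
    have hs1 : s = 1 := by
      have h2 : s ∈ sigmaCore N' ⊓ H := ⟨hs, hsH⟩
      rw [hσMH] at h2
      exact Subgroup.mem_bot.mp h2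
    rw [hus, hs1, mul_one]
    exact hu
  -- Step 4: a Sylow `r0`-subgroup `R` of `U` with `N_G(R) ≤ H`
  haveI : Fact r0.Prime := ⟨hr0⟩
  have hXU : Subgroup.zpowers (x ^ k) ≤ U := by
    rw [Subgroup.zpowers_le]; exact U.pow_mem hxU k
  have hr0U : r0 ∣ Nat.card U := by rw [← hXcard]; exact Subgroup.card_dvd_of_le hXU
  have hr0σM : r0 ∉ sigma N' := hr0τ.2.1
  have hr0κM : r0 ∉ kappa N' := Cfsg.Agent.Lib.Helper67.BG.not_mem_kappa_of_mem_tau2 hr0τ
  have hUhall := isPiHallOf_of_sigmaDecomposition hHallM hKU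
  have hndU : ¬ r0 ∣ U.relIndex N' := hUhall.2.2 r0 hr0 ⟨hr0, hr0κM, hr0σM⟩
  obtain ⟨R⟩ : Nonempty (Sylow r0 ↥U) := inferInstance
  have hRg : IsSylowIn r0 ((R : Subgroup U).map U.subtype) U := isSylowIn_of_sylow R
  have hRgM : IsSylowIn r0 ((R : Subgroup U).map U.subtype) N' :=
    Cfsg.Agent.Lib.Helper74.BG.isSylowIn_of_isSylowIn_of_not_dvd hRg hUM hndU
  have hRnc : ¬ IsCyclic ↥((R : Subgroup U).map U.subtype) := fun hc =>
    hr0τ.2.2.2 (Cfsg.Agent.Lib.Helper13.BG.pRankLE_one_of_cyclic_sylow hRgM hc)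
  have hHallH := (h1350 H hH).1
  obtain ⟨E', hE'⟩ := Cfsg.Agent.Lib.Helper67.BG.exists_compl_sigmaCore H hHallH
  have hNR : Subgroup.normalizer ((((R : Subgroup U).map U.subtype : Subgroup G)) : Set G) ≤ H :=
    (h1420 H hH E' hE').2.2.1 r0 _ hr0σH (sylIn_isPGroup hRg) (hRg.1.trans hUH) hRnc
  -- Step 5: S1366 and S1435
  obtain ⟨Mstar, ⟨hMstar, hKst, hKstH⟩, -⟩ := h1366 N' hM K U hKU hK1
  obtain ⟨hκH, hUσH, hMH', -, hKF, hE⟩ :=
    h1435 N' hM K U hKU hK1 hU1 Mstar hMstar hKst hKstH r0 hr0U R H hH hNR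
  -- Step 6: `C_E(x) = 1`
  have hUab : IsMulCommutative U := (h1363 N' hM K U hKU hK1).1
  have hEx : ∀ e ∈ H ⊓ Mstar, e * x = x * e → e = 1 := by
    intro e he hex
    have heC : e ∈ Subgroup.centralizer ({x} : Set G) := by
      rw [Subgroup.mem_centralizer_iff]
      intro y hy
      rw [Set.mem_singleton_iff.mp hy]
      exact hex.symm
    have heMH : e ∈ N' ⊓ H := ⟨hxM heC, he.1⟩
    rw [hMH', sup_comm] at heMH
    obtain ⟨k', hk', u, hu, hku⟩ := exists_mul_of_mem_sup_of_left_le_normalizer hKU.normal heMH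
    have hux : u * x = x * u := (isMulCommutative_subgroup_iff.mp hUab) u hu x hxU
    have hk'x : k' * x = x * k' := by
      have e1 : k' = e * u⁻¹ := by rw [hku]; group
      rw [e1]
      exact ((show Commute e x from hex).mul_left (show Commute u x from hux).inv_left).eq
    have hk'1 : k' = 1 := by
      by_contra hne
      have h53 := h1353 N' hM K U hKU k' hk' hne
      have hxin : x ∈ U ⊓ Subgroup.centralizer ({k'} : Set G) := by
        refine ⟨hxU, Subgroup.mem_centralizer_iff.mpr ?_⟩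
        intro y hy
        rw [Set.mem_singleton_iff.mp hy]
        exact hk'x
      rw [h53] at hxin
      exact hx1 (Subgroup.mem_bot.mp hxin)
    have heU : e ∈ U := by rw [hku, hk'1, one_mul]; exact hu
    have h2 : e ∈ (H ⊓ Mstar) ⊓ sigmaCore H := ⟨he, hUσH heU⟩
    rw [hE.2.2.1] at h2
    exact Subgroup.mem_bot.mp h2
  -- Step 7: `|K|` is prime and `τ₂(H) = ∅`
  have hKprime : (Nat.card K).Prime := (h1372 N' hM K U hKU hK1 hU1).1
  have hτ2 : tau2 H = ∅ := s1376_tau2_empty hG h1350 h1352 h1364 h1403 h1416 h1417 h1418 h1419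
    h1430 h1431 H N' Mstar K U hH hM hMstar hKU hK1 hKst hKstH hKprime hE hKF x hx hx1 hEx
  -- the primes of `E = H ∩ M*`
  have hErel : (sigmaCore H).relIndex H = Nat.card ↥(H ⊓ Mstar) := relIndex_right_of_isComplIn hE
  have hEσ : ∀ p : ℕ, p.Prime → p ∣ Nat.card ↥(H ⊓ Mstar) → p ∉ sigma H := by
    intro p hp hdvd hpσ
    exact hHallH.2.2 p hp hpσ (hErel ▸ hdvd)
  have hEr1 : ∀ p : ℕ, p.Prime → p ∣ Nat.card ↥(H ⊓ Mstar) → PRankLE p 1 H := by
    intro p hp hdvd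
    by_contra hr1
    by_cases hr2 : PRankLE p 2 H
    · have h3 : p ∈ tau2 H := ⟨hp, hEσ p hp hdvd, hr2, hr1⟩
      rw [hτ2] at h3
      exact h3
    · exact hEσ p hp hdvd (alpha_subset_sigma hG h1403 H hH ⟨hp, hr2⟩)
  -- Step 8: `H_σ` is nilpotent, `H' ≤ H_σ`
  have hKE : K ≤ H ⊓ Mstar := hKF.trans (Cfsg.Agent.Lib.Helper67.BG.fittingOf_le _)
  have hpK : Nat.card K ∣ Nat.card ↥(H ⊓ Mstar) := Subgroup.card_dvd_of_le hKE
  haveI : Fact (Nat.card K).Prime := ⟨hKprime⟩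
  have hσnil : Group.IsNilpotent (sigmaCore H) := by
    have hpH : Nat.card K ∣ Nat.card H := hpK.trans (Subgroup.card_dvd_of_le inf_le_left)
    have hpσ := hEσ _ hKprime hpK
    have hP1 : ¬ (∀ q : ℕ, q.Prime → q ∣ Nat.card H → q ∉ sigma H → q ∈ kappa H) := by
      intro h
      have h3 := h _ hKprime hpH hpσ
      rw [hκH] at h3
      exact h3
    obtain ⟨S⟩ : Nonempty (Sylow (Nat.card K) ↥H) := inferInstance
    have hnot : Nat.card K ∉ sigma H ∪ kappa H := by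
      intro h
      rcases h with h | h
      · exact hpσ h
      · rw [hκH] at h; exact h
    exact (h1429 H hH hP1 (Nat.card K) hpH hnot S).2.2
  obtain ⟨c, hcσ, hcx, hcH⟩ : ∃ c, c ∈ sigmaCore N' ∧ x * c = c * x ∧ c ∉ H := by
    by_contra hcon
    apply hxH
    intro y hy
    obtain ⟨a, ha, b, hb, hab⟩ := hRcompl.2.2.2 y hy
    have hbH : b ∈ H := by
      by_contra hbH
      exact hcon ⟨b, hb.1, (Subgroup.mem_centralizer_iff.mp hb.2) x (Set.mem_singleton x), hbH⟩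
    rw [hab]
    exact H.mul_mem ha.1 hbH
  obtain ⟨⟨K', hK'⟩, hcyc'⟩ := h1351 H hH
  obtain ⟨⟨U', hKU'⟩, -⟩ := h1352 H hH K' (hcyc' K' hK') hK'
  have hσF : sigmaCore H ≤ fittingOf H :=
    Cfsg.Agent.Lib.Helper67.BG.le_fittingOf_of_normal_nilpotent (sigmaCore_le H)
      (sigmaCore_normalizer H) hσnil
  have hconj : c * x * c⁻¹ = x := by rw [← hcx]; group
  have hX : fittingOf H ⊓ (fittingOf H).map (MulAut.conj c).toMonoidHom ≠ ⊥ := by
    intro hb
    have h1 : x ∈ fittingOf H ⊓ (fittingOf H).map (MulAut.conj c).toMonoidHom := by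
      refine ⟨hσF hx, ?_⟩
      have h2 := conj_mem_map_conj c (hσF hx)
      rwa [hconj] at h2
    rw [hb] at h1
    exact hx1 (Subgroup.mem_bot.mp h1)
  obtain ⟨-, ⟨hder, hFdec⟩, -⟩ := h1440w H hH K' U' hKU' c hcH hX
  obtain ⟨-, hYτ, -⟩ := h1439 H hH
  have hY1 : piCoreOf {q | q.Prime ∧ q ∉ sigma H} (fittingOf H) = ⊥ := by
    rw [← Subgroup.card_eq_one]
    by_contra hne
    obtain ⟨p, hp, hdvd⟩ := Nat.exists_prime_and_dvd hne
    have h3 := hYτ p hp hdvd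
    rw [hτ2] at h3
    exact h3
  have hderσ : ⁅H, H⁆ ≤ sigmaCore H := by
    rw [hY1, sup_bot_eq] at hFdec
    rw [← hFdec]
    exact hder
  -- Step 9: `E` is cyclic and acts fixed-point-freely on `H_σ`
  have hEtau1 : IsPiHallOf (tau1 H) (H ⊓ Mstar) (H ⊓ Mstar) := by
    refine ⟨le_rfl, ?_, ?_⟩
    · intro p hp hdvd
      refine ⟨hp, hEσ p hp hdvd, hdvd.trans (Subgroup.card_dvd_of_le inf_le_left), ?_,
        hEr1 p hp hdvd⟩
      intro h
      exact hEσ p hp hdvd (sigmaCore_isPi H p hp (h.trans (Subgroup.card_dvd_of_le hderσ)))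
    · intro p hp _ hdvd
      rw [Subgroup.relIndex_self] at hdvd
      exact Nat.Prime.not_dvd_one hp hdvd
  have hEcyc : IsCyclic ↥(H ⊓ Mstar) := (h1415 H hH _ hE).2.1 _ hEtau1
  have hfpf : ∀ e ∈ H ⊓ Mstar, e ≠ 1 → ∀ s ∈ sigmaCore H, e * s = s * e → s = 1 := by
    intro e he he1 s hs hes
    by_contra hs1
    have hord1 : orderOf e ≠ 1 := fun h => he1 (orderOf_eq_one_iff.mp h)
    obtain ⟨p, hp, hpe⟩ := Nat.exists_prime_and_dvd hord1
    haveI : Fact p.Prime := ⟨hp⟩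
    have hzord : orderOf (e ^ (orderOf e / p)) = p :=
      orderOf_pow_orderOf_div (orderOf_pos e).ne' hpe
    have hzE : e ^ (orderOf e / p) ∈ H ⊓ Mstar := (H ⊓ Mstar).pow_mem he _
    have hdvd : p ∣ Nat.card ↥(H ⊓ Mstar) := by
      rw [← hzord]
      exact Subgroup.orderOf_dvd_natCard _ hzE
    have hzs : e ^ (orderOf e / p) * s = s * e ^ (orderOf e / p) :=
      ((show Commute e s from hes).pow_left _).eq
    have hκ := Cfsg.Agent.Lib.Helper67.BG.mem_kappa_of_rank_one hG.1 H p (hEσ p hp hdvd)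
      (hEr1 p hp hdvd) _ hzE.1 hzord s hs hs1 hzs
    rw [hκH] at hκ
    exact hκ
  have hE1 : H ⊓ Mstar ≠ ⊥ := fun h => hK1 (le_bot_iff.mp (h ▸ hKE))
  have hS1 : sigmaCore H ≠ ⊥ := by
    intro h
    rw [h] at hx
    exact hx1 (Subgroup.mem_bot.mp hx)
  have hFrob := isFrobeniusComplement_of_fpf_compl hE (sigmaCore_normalizer H) hE1 hS1 hfpf
  have hcyc2 : IsCyclic ↥((H ⊓ Mstar).subgroupOf H) := by
    haveI := hEcyc
    exact isCyclic_of_surjective (Subgroup.subgroupOfEquivOfLe hE.1).symm.toMonoidHom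
      (Subgroup.subgroupOfEquivOfLe hE.1).symm.surjective
  -- Step 10: `H_F` is not a TI-subset
  have hσFH : sigmaCore H ≤ fittingHallOf H :=
    Cfsg.Agent.Lib.Helper71.BG.le_fittingHallOf (sigmaCore_le H) (sigmaCore_normalizer H) hσnil
      (Cfsg.Agent.Lib.Helper71.BG.coprime_of_isPiHallOf hHallH)
  have hFH1 : fittingHallOf H ≠ ⊥ := by
    intro h
    have h3 := hσFH hx
    rw [h] at h3
    exact hx1 (Subgroup.mem_bot.mp h3)
  have hNF : Subgroup.normalizer ((fittingHallOf H : Subgroup G) : Set G) = H :=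
    Cfsg.Agent.Lib.Helper13.BG.normalizer_eq_of_coatom hG hH hFH1
      (Cfsg.Agent.Lib.Helper71.BG.fittingHallOf_le' H)
      (Cfsg.Agent.Lib.Helper71.BG.le_normalizer_fittingHallOf H)
  refine ⟨hκH, ⟨_, hFrob, hcyc2⟩, ?_⟩
  intro hTI
  apply hx1
  refine hTI c ?_ x (hσFH hx) ?_
  · rw [hNF]; exact hcH
  · rw [hconj]
    exact hσFH hx

end Cfsg.Agent.Lib.Helper78.BG
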